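import Groth.Prelude.Def_EtAcyc
import Groth.Agent.Unr55.Et.Stalk
import Mathlib.AlgebraicGeometry.Morphisms.UniversallyOpen
import Mathlib.AlgebraicGeometry.Morphisms.Etale

/-!
`L`-torsion sheaves: sections over quasi-compact schemes and the stalkwise criterion.
-/

universe u

open CategoryTheory CategoryTheory.Limits AlgebraicGeometry Opposite

namespace Groth.Agent.EtTor93

open Groth.Agent.Unr55.EtSh

theorem primesIn_one (L : Set ℕ) : EtAcyc.PrimesIn L 1 :=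
  ⟨one_pos, fun p hp h => absurd (Nat.dvd_one.1 h) hp.ne_one⟩

theorem primesIn_mul {L : Set ℕ} {m n : ℕ} (hm : EtAcyc.PrimesIn L m) (hn : EtAcyc.PrimesIn L n) :
    EtAcyc.PrimesIn L (m * n) :=
  ⟨Nat.mul_pos hm.1 hn.1, fun p hp h => ((Nat.Prime.dvd_mul hp).1 h).elim (hm.2 p hp) (hn.2 p hp)⟩

theorem primesIn_prod {L : Set ℕ} {ι : Type*} (s : Finset ι) {f : ι → ℕ}
    (h : ∀ i ∈ s, EtAcyc.PrimesIn L (f i)) : EtAcyc.PrimesIn L (∏ i ∈ s, f i) :=
  Finset.prod_induction f (EtAcyc.PrimesIn L) (fun _ _ => primesIn_mul) (primesIn_one L) h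

variable {X : Scheme.{u}}

theorem isOpen_range_left {U V : X.Etale} (g : V ⟶ U) : IsOpen (Set.range g.left.base) := by
  have : Etale (g.left ≫ U.hom) := by rw [Over.w g.hom]; exact V.prop
  have : Etale g.left :=
    MorphismProperty.of_postcomp @Etale (W' := @Etale) g.left U.hom U.prop this
  exact g.left.isOpenMap.isOpen_range

/-- Over an etale scheme with quasi-compact underlying space, every section of an `L`-torsion
sheaf is killed by an integer with prime factors in `L`. -/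
theorem exists_smul_eq_zero {L : Set ℕ} {F : EtCoh.Ab X} (hF : EtAcyc.IsLTorsion L F) (U : X.Etale)
    [CompactSpace U.left] (s : EtCoh.sect F U) : ∃ m : ℕ, EtAcyc.PrimesIn L m ∧ m • s = 0 := by
  choose V g m hv hm hs using fun x : U.left => hF U s x
  obtain ⟨t, ht⟩ := isCompact_univ.elim_finite_subcover (fun x => Set.range (g x).left.base)
    (fun x => isOpen_range_left (g x)) (fun y _ => by
      obtain ⟨v, hv⟩ := hv y
      exact Set.mem_iUnion.2 ⟨y, v, hv⟩)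
  refine ⟨∏ x ∈ t, m x, primesIn_prod t fun x _ => hm x, ?_⟩
  refine sect_eq_zero_of_local F _ fun y => ?_
  obtain ⟨x, hx, v, hv⟩ := Set.mem_iUnion₂.1 (ht (Set.mem_univ y))
  refine ⟨V x, g x, v, hv, ?_⟩
  obtain ⟨k, hk⟩ := Finset.dvd_prod_of_mem m hx
  rw [map_nsmul, hk, mul_comm, mul_nsmul', hs x, smul_zero]

variable {Ω : Type u} [Field Ω] [IsSepClosed Ω]

/-- Stalks of an `L`-torsion sheaf are `L`-torsion. -/
theorem stalk_torsion {L : Set ℕ} {F : EtCoh.Ab X} (hF : EtAcyc.IsLTorsion L F)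
    (ξ : Spec (CommRingCat.of Ω) ⟶ X) (t : (EtCoh.stalk ξ).obj F) :
    ∃ m : ℕ, EtAcyc.PrimesIn L m ∧ m • t = 0 := by
  obtain ⟨U, p, σ, rfl⟩ := exists_germ_eq ξ F t
  let S : Sieve U :=
    { arrows := fun V g => ∃ m : ℕ, EtAcyc.PrimesIn L m ∧ m • F.obj.map g.op σ = 0
      downward_closed := fun {V W g} hg k => by
        obtain ⟨m, hm, h⟩ := hg
        refine ⟨m, hm, ?_⟩
        rw [op_comp, Functor.map_comp, ConcreteCategory.comp_apply, ← map_nsmul, h, map_zero] }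
  have hS : S ∈ X.smallEtaleTopology U := mem_topology fun x => by
    obtain ⟨V, g, m, ⟨v, hv⟩, hm, h⟩ := hF U σ x
    exact ⟨V, g, v, ⟨m, hm, h⟩, hv⟩
  obtain ⟨V, g, ⟨m, hm, h⟩, p', rfl⟩ := (Scheme.pointSmallEtale ξ).jointly_surjective S hS p
  refine ⟨m, hm, ?_⟩
  rw [← germ_map, ← map_nsmul, h, map_zero]

/-- A sheaf with `L`-torsion stalks is `L`-torsion. -/
theorem isLTorsion_of_stalks {L : Set ℕ} {F : EtCoh.Ab X}
    (h : ∀ (K : Type u) [Field K] [IsSepClosed K] (ξ : Spec (CommRingCat.of K) ⟶ X)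
      (t : (EtCoh.stalk ξ).obj F), ∃ m : ℕ, EtAcyc.PrimesIn L m ∧ m • t = 0) :
    EtAcyc.IsLTorsion L F := fun U s x => by
  obtain ⟨K, _, _, η, t, ht⟩ := point_over U x
  obtain ⟨m, hm, hs⟩ := h K η (germ η F t s)
  rw [← map_nsmul] at hs
  obtain ⟨V, g, t', h1, h2⟩ := (germ_eq_zero_iff η F t _).1 hs
  refine ⟨V, g, m, ⟨hom η t' default, ?_⟩, hm, ?_⟩
  · rw [← ht, ← h1]
    rfl
  · rw [← map_nsmul]
    exact h2

end Groth.Agent.EtTor93
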