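import Groth.Agent.EtTor93.Basic
import Groth.Agent.EtCore45.Stalks
import Mathlib.Algebra.Homology.DerivedCategory.Ext.Map
import Mathlib.Algebra.Homology.DerivedCategory.Ext.ExactSequences

/-!
Pullback on etale cohomology and connecting maps.
-/

universe u

open CategoryTheory CategoryTheory.Limits AlgebraicGeometry Opposite Abelian

namespace Groth.Agent.EtTor93

open Groth.Agent.Unr55.EtSh

variable {X Y : Scheme.{u}} (h : Y ⟶ X) [PreservesFiniteLimits (EtCoh.pull h)]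

theorem Hpull_comp_mk₀ {F G : EtCoh.Ab X} (v : F ⟶ G) (n : ℕ) (e : EtCoh.H X F n) :
    EtCore.Hpull h G n (e.comp (Ext.mk₀ v) (add_zero n)) =
      (EtCore.Hpull h F n e).comp (Ext.mk₀ ((EtCoh.pull h).map v)) (add_zero n) := by
  change (Ext.mk₀ (EtCore.pullConst h ℤ).inv).comp
      ((EtCoh.pull h).mapExtAddHom _ _ n (e.comp (Ext.mk₀ v) (add_zero n))) (zero_add n) =
    ((Ext.mk₀ (EtCore.pullConst h ℤ).inv).comp ((EtCoh.pull h).mapExtAddHom _ _ n e) (zero_add n)).comp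
      (Ext.mk₀ ((EtCoh.pull h).map v)) (add_zero n)
  simp only [Functor.mapExtAddHom_coe]
  rw [Ext.mapExactFunctor_comp, Ext.mapExactFunctor_mk₀, Ext.comp_assoc_of_third_deg_zero]

theorem Hpull_comp_extClass {S : ShortComplex (EtCoh.Ab X)} (hS : S.ShortExact) (n : ℕ)
    (e : EtCoh.H X S.X₃ n) :
    EtCore.Hpull h S.X₁ (n + 1) (e.comp hS.extClass rfl) =
      (EtCore.Hpull h S.X₃ n e).comp (hS.map_of_exact (EtCoh.pull h)).extClass rfl := by
  change (Ext.mk₀ (EtCore.pullConst h ℤ).inv).comp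
      ((EtCoh.pull h).mapExtAddHom _ _ (n + 1) (e.comp hS.extClass rfl)) (zero_add _) =
    ((Ext.mk₀ (EtCore.pullConst h ℤ).inv).comp ((EtCoh.pull h).mapExtAddHom _ _ n e) (zero_add n)).comp
      (hS.map_of_exact (EtCoh.pull h)).extClass rfl
  simp only [Functor.mapExtAddHom_coe]
  rw [Ext.mapExactFunctor_comp, Ext.mapExactFunctor_extClass]
  exact (Ext.comp_assoc _ _ _ (zero_add n) rfl (by omega)).symm

theorem isLTorsion_of_epi {L : Set ℕ} {F G : EtCoh.Ab X} (v : F ⟶ G) [Epi v]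
    (hF : EtAcyc.IsLTorsion L F) : EtAcyc.IsLTorsion L G :=
  isLTorsion_of_stalks fun K _ _ ξ t => by
    obtain ⟨s, rfl⟩ := (AddCommGrpCat.epi_iff_surjective _).1
      (inferInstance : Epi ((EtCoh.stalk ξ).map v)) t
    obtain ⟨m, hm, hs⟩ := stalk_torsion hF ξ s
    exact ⟨m, hm, by rw [← map_nsmul, hs, map_zero]⟩

theorem mem_range_Hpull_succ_aux {L : Set ℕ} {n : ℕ} (hc : EtAcyc.CompN h L n)
    {S : ShortComplex (EtCoh.Ab X)} (hS : S.ShortExact) (hQ : EtAcyc.IsLTorsion L S.X₃)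
    (ξ : EtCoh.H Y ((EtCoh.pull h).obj S.X₁) (n + 1)) (b : EtCoh.H X S.X₂ (n + 1))
    (hb : EtCore.Hpull h S.X₂ (n + 1) b = ξ.comp (Ext.mk₀ ((EtCoh.pull h).map S.f)) (add_zero _)) :
    ∃ a : EtCoh.H X S.X₁ (n + 1), EtCore.Hpull h S.X₁ (n + 1) a = ξ := by
  obtain ⟨hQb, hQi⟩ := hc S.X₃ hQ
  have hb0 : b.comp (Ext.mk₀ S.g) (add_zero _) = 0 := by
    refine hQi (((Hpull_comp_mk₀ h S.g (n + 1) b).trans ?_).trans (map_zero _).symm)
    refine (congrArg (fun z => Ext.comp z (Ext.mk₀ ((EtCoh.pull h).map S.g)) (add_zero _)) hb).trans ?_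
    refine (Ext.comp_assoc_of_third_deg_zero _ _ _ _).trans ?_
    rw [Ext.mk₀_comp_mk₀, ← Functor.map_comp, S.zero, Functor.map_zero, Ext.mk₀_zero, Ext.comp_zero]
  obtain ⟨a, ha⟩ := Ext.covariant_sequence_exact₂ _ hS b hb0
  have hd : (ξ + -EtCore.Hpull h S.X₁ (n + 1) a).comp (Ext.mk₀ ((EtCoh.pull h).map S.f)) (add_zero _) = 0 := by
    rw [Ext.add_comp, Ext.neg_comp]
    have e : (EtCore.Hpull h S.X₁ (n + 1) a).comp (Ext.mk₀ ((EtCoh.pull h).map S.f)) (add_zero _) =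
        EtCore.Hpull h S.X₂ (n + 1) b :=
      (Hpull_comp_mk₀ h S.f (n + 1) a).symm.trans (congrArg (EtCore.Hpull h S.X₂ (n + 1)) ha)
    rw [← hb]
    exact (congrArg (fun z => EtCore.Hpull h S.X₂ (n + 1) b + -z) e).trans (add_neg_cancel _)
  obtain ⟨c, hc'⟩ := Ext.covariant_sequence_exact₁ _ (hS.map_of_exact (EtCoh.pull h)) _ hd (n₀ := n) rfl
  obtain ⟨c, rfl⟩ := (hQb n le_rfl).2 c
  refine ⟨a + c.comp hS.extClass rfl, ?_⟩
  refine (map_add _ _ _).trans ?_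
  refine (congrArg (EtCore.Hpull h S.X₁ (n + 1) a + ·) ((Hpull_comp_extClass h hS n c).trans hc')).trans ?_
  change EtCore.Hpull h S.X₁ (n + 1) a + (ξ + -EtCore.Hpull h S.X₁ (n + 1) a) = ξ
  exact (add_comm _ _).trans (neg_add_cancel_right _ _)

theorem mem_range_Hpull_succ {L : Set ℕ} {n : ℕ} (hc : EtAcyc.CompN h L n) {F G : EtCoh.Ab X}
    (v : F ⟶ G) [Mono v] (hG : EtAcyc.IsLTorsion L G)
    (ξ : EtCoh.H Y ((EtCoh.pull h).obj F) (n + 1))
    (hξ : ∃ b : EtCoh.H X G (n + 1),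
      EtCore.Hpull h G (n + 1) b = ξ.comp (Ext.mk₀ ((EtCoh.pull h).map v)) (add_zero _)) :
    ξ ∈ Set.range (EtCore.Hpull h F (n + 1)) := by
  obtain ⟨b, hb⟩ := hξ
  let S : ShortComplex (EtCoh.Ab X) := ShortComplex.mk v (cokernel.π v) (cokernel.condition v)
  have hS : S.ShortExact :=
    { exact := ShortComplex.exact_cokernel v
      mono_f := ‹Mono v›
      epi_g := inferInstanceAs (Epi (cokernel.π v)) }
  exact mem_range_Hpull_succ_aux h hc hS (isLTorsion_of_epi (cokernel.π v) hG) ξ b hb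

end Groth.Agent.EtTor93
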